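import Cfsg.Agent.SameGraph.Main
import Cfsg.Agent.Components.Cores
import Cfsg.Agent.Components.PComponents
import Cfsg.Agent.OddChar.PF.OddOrder
import Cfsg.Agent.Coprime.Sylow

/-!
Groups with only boundedly many groups sharing their prime graph are almost simple.
-/

set_option autoImplicit false
set_option linter.style.haveILetI false

namespace Cfsg.Lib.SameGraph

open Subgroup

universe u

/-- Fibre powers over a quotient by a `q`-group have the same graph. -/
theorem unbounded_of_pgroup {G : Type} [Group G] [Finite G] (V : Subgroup G) [V.Normal] {q : ℕ} [Fact q.Prime]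
    (hV : IsPGroup q V) (hne : V ≠ ⊥) : Unbounded G := by
  classical
  intro n
  let H : Subgroup (Fin (n + 1) → G) :=
    { carrier := {f | ∀ i, QuotientGroup.mk' V (f i) = QuotientGroup.mk' V (f 0)}
      one_mem' := fun i => rfl
      mul_mem' := fun {f f'} hf hf' i => by simp only [Pi.mul_apply, map_mul, hf i, hf' i]
      inv_mem' := fun {f} hf i => by simp only [Pi.inv_apply, map_inv, hf i] }
  let pr : H →* G := (Pi.evalMonoidHom (fun _ : Fin (n + 1) => G) 0).comp H.subtype
  have hpr : Function.Surjective pr := fun g => ⟨⟨fun _ => g, fun _ => rfl⟩, rfl⟩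
  have hcomp : ∀ (f : H) (i : Fin (n + 1)) (k : ℕ), f ^ k = 1 → (f.1 i) ^ k = 1 := by
    intro f i k h
    have h1 := congrFun (congrArg Subtype.val h) i
    exact h1
  refine ⟨H, inferInstance, inferInstance, ?_, fun s hs => ⟨fun h => h.trans (Subgroup.card_dvd_of_surjective pr hpr), ?_⟩,
    fun a b ha hb hab => ⟨fun h => lift_order pr hpr h, ?_⟩⟩
  · let e : (Fin (n + 1) → V) → H := fun v => ⟨fun i => (v i : G), fun i => by
      rw [QuotientGroup.mk'_apply, QuotientGroup.mk'_apply, (QuotientGroup.eq_one_iff _).2 (v i).2,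
        (QuotientGroup.eq_one_iff _).2 (v 0).2]⟩
    have he : Function.Injective e := fun v w h => funext fun i =>
      Subtype.ext (congrFun (congrArg Subtype.val h) i)
    haveI : Nontrivial V := (Subgroup.nontrivial_iff_ne_bot V).2 hne
    have h2 : 2 ≤ Nat.card V := Finite.one_lt_card
    calc n < 2 ^ n := Nat.lt_pow_self one_lt_two
      _ ≤ 2 ^ (n + 1) := Nat.pow_le_pow_right two_pos n.le_succ
      _ ≤ Nat.card V ^ (n + 1) := Nat.pow_le_pow_left h2 _
      _ = Nat.card (Fin (n + 1) → V) := by rw [Nat.card_fun, Nat.card_eq_fintype_card (α := Fin (n + 1)),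
            Fintype.card_fin]
      _ ≤ Nat.card H := Nat.card_le_card_of_injective e he
  · intro h
    haveI := Fact.mk hs
    obtain ⟨f, hf⟩ := exists_prime_orderOf_dvd_card' s h
    by_contra hns
    have h1 : f = 1 := Subtype.ext (funext fun i => by
      have h2 := orderOf_dvd_of_pow_eq_one (hcomp f i s (hf ▸ pow_orderOf_eq_one f))
      rcases (Nat.dvd_prime hs).1 h2 with h3 | h3
      · exact orderOf_eq_one_iff.1 h3
      · exact absurd (h3 ▸ orderOf_dvd_natCard (f.1 i)) hns)
    rw [h1, orderOf_one] at hf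
    exact hs.one_lt.ne hf
  · rintro ⟨f, hf⟩
    by_contra hno
    have hdvd : ∀ i, orderOf (f.1 i) ∣ a * b :=
      fun i => orderOf_dvd_of_pow_eq_one (hcomp f i _ (hf ▸ pow_orderOf_eq_one f))
    have hsmall : ∀ i, orderOf (f.1 i) ∣ a ∨ orderOf (f.1 i) ∣ b := by
      intro i
      by_contra h
      push Not at h
      have hA : a ∣ orderOf (f.1 i) := by
        by_contra h'
        exact h.2 ((ha.coprime_iff_not_dvd.2 h').symm.dvd_of_dvd_mul_left (hdvd i))
      have hB : b ∣ orderOf (f.1 i) := by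
        by_contra h'
        exact h.1 ((hb.coprime_iff_not_dvd.2 h').symm.dvd_of_dvd_mul_right (hdvd i))
      exact hno ⟨f.1 i, Nat.dvd_antisymm (hdvd i)
        (((Nat.coprime_primes ha hb).2 hab).mul_dvd_of_dvd_of_dvd hA hB)⟩
    have hex : ∀ c d : ℕ, c.Prime → d.Prime → c ≠ d → a * b = c * d → ∃ i, orderOf (f.1 i) = c := by
      intro c d hc hd hcd he
      by_contra hnone
      push Not at hnone
      have hpow : f ^ d = 1 := Subtype.ext (funext fun i => by
        show (f.1 i) ^ d = 1
        refine orderOf_dvd_iff_pow_eq_one.1 ?_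
        have h1 := hsmall i
        have h2 : orderOf (f.1 i) ∣ c * d := he ▸ hdvd i
        have h3 : orderOf (f.1 i) ∣ c ∨ orderOf (f.1 i) ∣ d := by
          rcases h1 with h1 | h1 <;> rcases (Nat.dvd_prime (by first | exact ha | exact hb)).1 h1 with h4 | h4
          · exact Or.inr (by rw [h4]; exact one_dvd d)
          · rw [h4] at h2 ⊢
            rcases ha.dvd_mul.1 h2 with h5 | h5
            · exact Or.inl h5
            · exact Or.inr h5
          · exact Or.inr (by rw [h4]; exact one_dvd d)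
          · rw [h4] at h2 ⊢
            rcases hb.dvd_mul.1 h2 with h5 | h5
            · exact Or.inl h5
            · exact Or.inr h5
        rcases h3 with h3 | h3
        · rcases (Nat.dvd_prime hc).1 h3 with h4 | h4
          · rw [h4]; exact one_dvd d
          · exact absurd h4 (hnone i)
        · exact h3)
      have h5 := orderOf_dvd_of_pow_eq_one hpow
      rw [hf, he] at h5
      have h6 : c ∣ d := (dvd_mul_right c d).trans h5
      exact hcd ((Nat.prime_dvd_prime_iff_eq hc hd).1 h6)
    obtain ⟨i, hi⟩ := hex a b ha hb hab rfl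
    obtain ⟨j, hj⟩ := hex b a hb ha hab.symm (mul_comm a b)
    have heq : QuotientGroup.mk' V (f.1 i) = QuotientGroup.mk' V (f.1 j) := (f.2 i).trans (f.2 j).symm
    have h1 : orderOf (QuotientGroup.mk' V (f.1 i)) ∣ a := hi ▸ orderOf_map_dvd (QuotientGroup.mk' V) (f.1 i)
    have h2 : orderOf (QuotientGroup.mk' V (f.1 i)) ∣ b := by
      rw [heq]; exact hj ▸ orderOf_map_dvd (QuotientGroup.mk' V) (f.1 j)
    have h3 : QuotientGroup.mk' V (f.1 i) = 1 := orderOf_eq_one_iff.1
      (Nat.eq_one_of_dvd_coprimes ((Nat.coprime_primes ha hb).2 hab) h1 h2)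
    have hiV : f.1 i ∈ V := (QuotientGroup.eq_one_iff _).1 h3
    have hjV : f.1 j ∈ V := (QuotientGroup.eq_one_iff _).1 (heq.symm.trans h3)
    have hqa : q ∣ a := hi ▸ prime_dvd_orderOf hV hiV (fun e => ha.one_lt.ne (by rw [← hi, e, orderOf_one]))
    have hqb : q ∣ b := hj ▸ prime_dvd_orderOf hV hjV (fun e => hb.one_lt.ne (by rw [← hj, e, orderOf_one]))
    have hq : q.Prime := Fact.out
    exact hab (((Nat.prime_dvd_prime_iff_eq hq ha).1 hqa).symm.trans ((Nat.prime_dvd_prime_iff_eq hq hb).1 hqb))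

/-- The abelian normal subgroup inside a solvable one. -/
theorem exists_pgroup_of_solvable {G : Type} [Group G] [Finite G] (N : Subgroup G) [N.Normal] (hN : N ≠ ⊥)
    (hs : Group.IsSolvable N) : ∃ (q : ℕ) (_ : Fact q.Prime) (V : Subgroup G), V.Normal ∧ V ≠ ⊥ ∧ IsPGroup q V := by
  classical
  obtain ⟨M, hMN, ⟨hMn, hMne, hMs⟩, hMmin⟩ := Finite.exists_le_minimal (α := Subgroup G)
    (p := fun M => M.Normal ∧ M ≠ ⊥ ∧ Group.IsSolvable M) (a := N) ⟨inferInstance, hN, hs⟩
  haveI := hMn
  haveI := hMs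
  haveI : Nontrivial M := (Subgroup.nontrivial_iff_ne_bot M).2 hMne
  have hlt : commutator M < ⊤ := Group.IsSolvable.commutator_lt_top_of_nontrivial M
  have hC : (commutator M).map M.subtype = ⊥ := by
    by_contra h
    have hle := hMmin ⟨ConjAct.normal_of_characteristic_of_normal, h, ?_⟩ (map_subtype_le _)
    · refine hlt.ne (eq_top_iff.2 fun x _ => ?_)
      obtain ⟨y, hy, hyx⟩ := hle x.2
      rwa [← Subtype.ext hyx]
    · exact solvable_of_solvable_injective (f := Subgroup.inclusion (map_subtype_le (commutator M)))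
        (Subgroup.inclusion_injective _)
  rw [Subgroup.map_eq_bot_iff_of_injective _ M.subtype_injective, commutator_eq_bot_iff_center_eq_top] at hC
  haveI : Fact (Nat.card M).minFac.Prime := ⟨Nat.minFac_prime Finite.one_lt_card.ne'⟩
  obtain ⟨S⟩ := (inferInstance : Nonempty (Sylow (Nat.card M).minFac M))
  haveI : (S : Subgroup M).Normal := ⟨fun x hx g => by
    have hx' : x ∈ center M := hC ▸ mem_top x
    rwa [mem_center_iff.1 hx' g, mul_inv_cancel_right]⟩
  haveI : (S : Subgroup M).Characteristic := Sylow.characteristic_of_normal S inferInstance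
  refine ⟨_, inferInstance, (S : Subgroup M).map M.subtype, ConjAct.normal_of_characteristic_of_normal, ?_, S.2.map _⟩
  rw [ne_eq, Subgroup.map_eq_bot_iff_of_injective _ M.subtype_injective]
  exact S.ne_bot_of_dvd_card (Nat.minFac_dvd _)

theorem two_dvd_of_not_solvable {G : Type*} [Group G] [Finite G] (h : ¬ Group.IsSolvable G) : 2 ∣ Nat.card G := by
  by_contra hd
  exact h (Cfsg.Agent.PF.isSolvable_of_odd G (Nat.odd_iff.2 (Nat.two_dvd_ne_zero.1 hd)))

/-- Almost simple. -/
def AlmostSimple (G : Type u) [Group G] : Prop :=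
  ∃ N : Subgroup G, N.Normal ∧ IsSimpleGroup ↥N ∧ ¬ IsMulCommutative ↥N ∧ Subgroup.centralizer (N : Set G) = ⊥

theorem unbounded_of_not_almostSimple {G : Type} [Group G] [Finite G] [Nontrivial G] (h : ¬ AlmostSimple G) :
    Unbounded G := by
  classical
  by_contra hU
  have hns : ∀ N : Subgroup G, N.Normal → Group.IsSolvable N → N = ⊥ := by
    intro N hN hs
    by_contra hne
    haveI := hN
    obtain ⟨q, hq, V, hVn, hVne, hV⟩ := exists_pgroup_of_solvable N hne hs
    haveI := hVn
    exact hU (unbounded_of_pgroup V hV hVne)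
  obtain ⟨N₀, -, ⟨hN₀, hN₀ne⟩, hmin⟩ := Finite.exists_le_minimal (α := Subgroup G)
    (p := fun M => M.Normal ∧ M ≠ ⊥) (a := ⊤) ⟨inferInstance, top_ne_bot⟩
  haveI := hN₀
  have hN₀s : ¬ Group.IsSolvable N₀ := fun hs => hN₀ne (hns N₀ hN₀ hs)
  have hinv : ∀ (M : Subgroup G), 2 ∣ Nat.card M → ∃ t ∈ M, orderOf t = 2 := by
    intro M hM
    haveI : Fact (Nat.Prime 2) := ⟨Nat.prime_two⟩
    obtain ⟨t, ht⟩ := exists_prime_orderOf_dvd_card' 2 hM
    exact ⟨t, t.2, by rw [Subgroup.orderOf_coe]; exact ht⟩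
  have hedge : ∀ (M M' : Subgroup G) (q : ℕ), q.Prime → q ≠ 2 → q ∣ Nat.card M → 2 ∣ Nat.card M' →
      (∀ a ∈ M, ∀ b ∈ M', Commute a b) → ∃ g : G, orderOf g = 2 * q := by
    intro M M' q hq hq2 hqM h2 hc
    haveI := Fact.mk hq
    obtain ⟨a, ha⟩ := exists_prime_orderOf_dvd_card' q hqM
    obtain ⟨t, htM, ht⟩ := hinv M' h2
    exact edge_of_commute (hc a a.2 t htM).symm Nat.prime_two hq hq2.symm (by rw [ht])
      (by rw [Subgroup.orderOf_coe, ha])
  by_cases hC : centralizer (N₀ : Set G) = ⊥
  · -- a minimal subgroup normalised by `N₀`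
    obtain ⟨M, hMN, ⟨hMne, hMnorm⟩, hMmin⟩ := Finite.exists_le_minimal (α := Subgroup G)
      (p := fun M => M ≠ ⊥ ∧ N₀ ≤ normalizer (M : Set G)) (a := N₀) ⟨hN₀ne, le_normalizer⟩
    haveI : (M.subgroupOf N₀).Normal := Subgroup.normal_subgroupOf_of_le_normalizer hMnorm
    by_cases hall : ∀ g : G, M.map (MulAut.conj g).toMonoidHom ≤ M
    · have hMn : M.Normal := ⟨fun x hx g => hall g (mem_map_of_mem _ hx)⟩
      have hMeq : M = N₀ := le_antisymm hMN (hmin ⟨hMn, hMne⟩ hMN)
      subst hMeq
      haveI : Nontrivial M := (Subgroup.nontrivial_iff_ne_bot M).2 hMne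
      refine h ⟨M, hMn, ⟨fun Y hY => ?_⟩, fun hab => hN₀s ?_, hC⟩
      · by_contra hY'
        push Not at hY'
        have hne : Y.map M.subtype ≠ ⊥ := by
          rw [ne_eq, Subgroup.map_eq_bot_iff_of_injective _ M.subtype_injective]; exact hY'.1
        have hnorm : M ≤ normalizer ((Y.map M.subtype : Subgroup G) : Set G) := by
          have h1 := Subgroup.le_normalizer_map (H := Y) M.subtype
          rwa [normalizer_eq_top_iff.2 hY, ← MonoidHom.range_eq_map, Subgroup.range_subtype] at h1
        have hle := hMmin ⟨hne, hnorm⟩ (map_subtype_le _)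
        exact hY'.2 (eq_top_iff.2 fun x _ => by
          obtain ⟨y, hy, hyx⟩ := hle x.2
          rwa [← Subtype.ext hyx])
      · exact Group.isSolvable_of_comm fun a b => hab.is_comm.comm a b
    · push Not at hall
      obtain ⟨g, hg⟩ := hall
      set M' := M.map (MulAut.conj g).toMonoidHom with hM'
      have hM'N : M' ≤ N₀ := by
        rintro _ ⟨x, hx, rfl⟩
        exact hN₀.conj_mem x (hMN hx) g
      have hM'norm : N₀ ≤ normalizer (M' : Set G) := by
        refine le_trans ?_ (Subgroup.le_normalizer_map (H := M) (MulAut.conj g).toMonoidHom)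
        intro n hn
        refine ⟨g⁻¹ * n * g, hMnorm (by simpa using hN₀.conj_mem n hn g⁻¹), ?_⟩
        simp [mul_assoc]
      have hdisj : M ⊓ M' = ⊥ := by
        by_contra hne
        have hle := hMmin ⟨hne, fun n hn => ?_⟩ inf_le_left
        · refine hg ?_
          have hMM' : M ≤ M' := hle.trans inf_le_right
          exact (Subgroup.eq_of_le_of_card_ge hMM'
            (Subgroup.card_map_of_injective (MulAut.conj g).injective).le).ge
        · have h1 := mem_normalizer_iff.1 (hMnorm hn)
          have h2 := mem_normalizer_iff.1 (hM'norm hn)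
          exact mem_normalizer_iff.2 fun x =>
            ⟨fun hx => ⟨(h1 x).1 hx.1, (h2 x).1 hx.2⟩, fun hx => ⟨(h1 x).2 hx.1, (h2 x).2 hx.2⟩⟩
      have hcomm : ∀ a ∈ M, ∀ b ∈ M', Commute a b := by
        intro a ha b hb
        have h1 : a * b * a⁻¹ * b⁻¹ ∈ M' :=
          mul_mem ((mem_normalizer_iff.1 (hM'norm (hMN ha)) b).1 hb) (inv_mem hb)
        have h2 : a * b * a⁻¹ * b⁻¹ ∈ M := by
          rw [show a * b * a⁻¹ * b⁻¹ = a * (b * a⁻¹ * b⁻¹) by group]
          exact mul_mem ha ((mem_normalizer_iff.1 (hMnorm (hM'N hb)) a⁻¹).1 (inv_mem ha))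
        have h3 : a * b * a⁻¹ * b⁻¹ ∈ M ⊓ M' := ⟨h2, h1⟩
        rw [hdisj, mem_bot] at h3
        exact commutatorElement_eq_one_iff_mul_comm.1 (by rw [commutatorElement_def]; exact h3)
      have hqM : ∀ q : ℕ, q.Prime → q ∣ Nat.card N₀ → q ∣ Nat.card M := by
        intro q hq hqN
        by_contra hqM
        haveI := Fact.mk hq
        have hle : M.subgroupOf N₀ ≤ Cfsg.pPrimeCore q N₀ := by
          refine le_sSup ⟨inferInstance, ?_⟩
          rw [Nat.card_congr (Subgroup.subgroupOfEquivOfLe hMN).toEquiv]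
          exact (hq.coprime_iff_not_dvd.2 hqM).symm
        haveI : ((Cfsg.pPrimeCore q N₀).map N₀.subtype).Normal := ConjAct.normal_of_characteristic_of_normal
        have hne : (Cfsg.pPrimeCore q N₀).map N₀.subtype ≠ ⊥ := by
          intro h0
          refine hMne (eq_bot_iff.2 fun x hx => ?_)
          rw [← h0]
          exact ⟨⟨x, hMN hx⟩, hle hx, rfl⟩
        have htop := le_antisymm (map_subtype_le _) (hmin ⟨inferInstance, hne⟩ (map_subtype_le _))
        have hcop := Cfsg.Lib.Components.coprime_card_pPrimeCore (G := N₀) q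
        rw [← Subgroup.card_map_of_injective N₀.subtype_injective, htop] at hcop
        exact hq.coprime_iff_not_dvd.1 hcop.symm hqN
      have hM2 : 2 ∣ Nat.card M' := by
        rw [hM', Subgroup.card_map_of_injective (MulAut.conj g).injective]
        exact hqM 2 Nat.prime_two (two_dvd_of_not_solvable hN₀s)
      exact hU (unbounded_of_adjacent N₀ (two_dvd_of_not_solvable hN₀s)
        fun q hq hq2 hqN => hedge M M' q hq hq2 (hqM q hq hqN) hM2 hcomm)
  · set C := centralizer (N₀ : Set G) with hCdef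
    have hC2 : 2 ∣ Nat.card C := two_dvd_of_not_solvable fun hs => hC (hns C inferInstance hs)
    have hN2 := two_dvd_of_not_solvable hN₀s
    have hcomm : ∀ a ∈ N₀, ∀ b ∈ C, Commute a b := fun a ha b hb => mem_centralizer_iff.1 hb a ha
    refine hU (unbounded_of_adjacent (N₀ ⊔ C) (hN2.trans (Subgroup.card_dvd_of_le le_sup_left)) ?_)
    intro q hq hq2 hqL
    have hmul := Cfsg.Lib.Coprime.card_sup_mul_card_inf (N := N₀) (H := C)
      (by rw [normalizer_eq_top_iff.2 hN₀]; exact le_top)
    rcases hq.dvd_mul.1 ((dvd_mul_of_dvd_left hqL _).trans hmul.dvd) with h1 | h1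
    · exact hedge N₀ C q hq hq2 h1 hC2 hcomm
    · exact hedge C N₀ q hq hq2 h1 hN2 (fun a ha b hb => (hcomm b hb a ha).symm)

/-- Boundedly many groups with the same graph force an almost simple group. -/
theorem almostSimple_of_bounded {G : Type u} [Group G] [Finite G] [Nontrivial G]
    (h : ∃ n : ℕ, ∀ (H : Type) [Group H] [Finite H], Same G H → Nat.card H ≤ n) : AlmostSimple G := by
  classical
  let f : G →* Equiv.Perm (Fin (Nat.card G)) :=
    ((Finite.equivFin G).permCongrHom.toMonoidHom).comp (MulAction.toPermHom G G)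
  have hf : Function.Injective f := (Finite.equivFin G).permCongrHom.injective.comp MulAction.toPerm_injective
  let e : G ≃* f.range := MonoidHom.ofInjective hf
  haveI : Nontrivial f.range := e.toEquiv.symm.nontrivial
  have h0 : AlmostSimple f.range := by
    by_contra hno
    obtain ⟨n, hn⟩ := h
    obtain ⟨H, iH, iHf, hlt, hsame⟩ := unbounded_of_not_almostSimple hno n
    exact absurd (hn H ((same_of_equiv e).trans hsame)) (not_le.2 hlt)
  obtain ⟨N, hN, hs, hna, hC⟩ := h0
  let ei : N.comap e.toMonoidHom ≃* N :=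
    (MulEquiv.subgroupMap e (N.comap e.toMonoidHom)).trans
      (MulEquiv.subgroupCongr (Subgroup.map_comap_eq_self_of_surjective e.surjective N))
  refine ⟨N.comap e.toMonoidHom, hN.comap _, ?_, fun hab => hna ?_, ?_⟩
  · haveI := hs
    exact ei.isSimpleGroup
  · exact ⟨⟨fun a b => by
      obtain ⟨a', rfl⟩ := ei.surjective a
      obtain ⟨b', rfl⟩ := ei.surjective b
      rw [← map_mul, ← map_mul, hab.is_comm.comm a' b']⟩⟩
  · rw [eq_bot_iff]
    intro x hx
    have h1 : e x ∈ centralizer (N : Set f.range) := by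
      intro y hy
      obtain ⟨z, rfl⟩ := e.surjective y
      rw [← map_mul, ← map_mul, mem_centralizer_iff.1 hx z hy]
    rw [hC, mem_bot] at h1
    exact mem_bot.2 (e.injective (h1.trans (map_one e).symm))

end Cfsg.Lib.SameGraph
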