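import Mathlib
import Cfsg.Agent.Frobenius.FpfGroups

/-!
Prime graphs of finite groups: edges, sections, and an edge forced by a non-cyclic Sylow subgroup of a quotient.
-/

set_option autoImplicit false

namespace Cfsg.Lib.SameGraph

open Subgroup

universe u v w

/-- Same prime divisors and same edges. -/
def Same (G : Type u) [Group G] (H : Type v) [Group H] : Prop :=
  (∀ p : ℕ, p.Prime → (p ∣ Nat.card G ↔ p ∣ Nat.card H)) ∧
  (∀ p q : ℕ, p.Prime → q.Prime → p ≠ q → ((∃ g : G, orderOf g = p * q) ↔ (∃ g : H, orderOf g = p * q)))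

/-- Groups of unbounded order with the same graph. -/
def Unbounded (G : Type u) [Group G] : Prop :=
  ∀ n : ℕ, ∃ (H : Type) (_ : Group H) (_ : Finite H), n < Nat.card H ∧ Same G H

theorem Same.symm {G : Type u} [Group G] {H : Type v} [Group H] (h : Same G H) : Same H G :=
  ⟨fun p hp => (h.1 p hp).symm, fun p q hp hq hpq => (h.2 p q hp hq hpq).symm⟩

theorem Same.trans {G : Type u} [Group G] {H : Type v} [Group H] {K : Type w} [Group K] (h : Same G H)
    (h' : Same H K) : Same G K :=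
  ⟨fun p hp => (h.1 p hp).trans (h'.1 p hp), fun p q hp hq hpq => (h.2 p q hp hq hpq).trans (h'.2 p q hp hq hpq)⟩

theorem same_of_equiv {G : Type u} [Group G] {H : Type v} [Group H] (e : G ≃* H) : Same G H := by
  refine ⟨fun p _ => by rw [Nat.card_congr e.toEquiv], fun p q _ _ _ => ⟨?_, ?_⟩⟩
  · rintro ⟨g, hg⟩
    exact ⟨e g, by rw [MulEquiv.orderOf_eq, hg]⟩
  · rintro ⟨g, hg⟩
    exact ⟨e.symm g, by rw [MulEquiv.orderOf_eq, hg]⟩

variable {G : Type u} [Group G] [Finite G]

theorem exists_orderOf_of_dvd {g : G} {n : ℕ} (h : n ∣ orderOf g) :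
    orderOf (g ^ (orderOf g / n)) = n :=
  orderOf_pow_orderOf_div (orderOf_pos g).ne' h

/-- Element orders lift along surjective maps. -/
theorem lift_order {H : Type v} [Group H] (f : G →* H) (hf : Function.Surjective f) {n : ℕ}
    (h : ∃ x : H, orderOf x = n) : ∃ g : G, orderOf g = n := by
  obtain ⟨x, hx⟩ := h
  obtain ⟨g, rfl⟩ := hf x
  exact ⟨_, exists_orderOf_of_dvd (hx ▸ orderOf_map_dvd f g)⟩

theorem edge_of_commute {a w : G} (hc : Commute a w) {q s : ℕ} (hq : q.Prime) (hs : s.Prime) (hqs : q ≠ s)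
    (ha : q ∣ orderOf a) (hw : s ∣ orderOf w) : ∃ g : G, orderOf g = q * s := by
  refine ⟨a ^ (orderOf a / q) * w ^ (orderOf w / s), ?_⟩
  have h1 := exists_orderOf_of_dvd ha
  have h2 := exists_orderOf_of_dvd hw
  rw [(hc.pow_pow _ _).orderOf_mul_eq_mul_orderOf_of_coprime, h1, h2]
  rw [h1, h2]
  exact (Nat.coprime_primes hq hs).2 hqs

theorem prime_dvd_orderOf {q : ℕ} [Fact q.Prime] {A : Subgroup G} (hA : IsPGroup q A) {a : G} (ha : a ∈ A)
    (ha1 : a ≠ 1) : q ∣ orderOf a := by
  obtain ⟨i, hi⟩ := IsPGroup.iff_orderOf.1 hA ⟨a, ha⟩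
  rw [Subgroup.orderOf_mk] at hi
  rw [hi]
  refine dvd_pow_self q ?_
  rintro rfl
  rw [pow_zero] at hi
  exact ha1 (orderOf_eq_one_iff.1 hi)

/-- A non-cyclic Sylow `q`-subgroup of `G ⧸ L` joins `q` to every prime divisor of `|L|`. -/
theorem edge_of_noncyclic (L : Subgroup G) [L.Normal] {q s : ℕ} [Fact q.Prime] [Fact s.Prime] (hq2 : q ≠ 2)
    (hqs : q ≠ s) (hs : s ∣ Nat.card L) (Q : Sylow q (G ⧸ L)) (hQ : ¬ IsCyclic (Q : Subgroup (G ⧸ L))) :
    ∃ g : G, orderOf g = q * s := by
  classical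
  obtain ⟨S⟩ := (inferInstance : Nonempty (Sylow s L))
  set V : Subgroup G := (S : Subgroup L).map L.subtype with hV
  set f : normalizer (V : Set G) →* G ⧸ L := (QuotientGroup.mk' L).comp (normalizer (V : Set G)).subtype with hf
  have hsurj : Function.Surjective f := by
    intro y
    obtain ⟨g, rfl⟩ := QuotientGroup.mk'_surjective L y
    have hg : g ∈ normalizer (V : Set G) ⊔ L := by
      rw [hV, Sylow.normalizer_sup_eq_top]; trivial
    obtain ⟨n, hn, l, hl, rfl⟩ := Subgroup.mem_sup_of_normal_right.1 hg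
    refine ⟨⟨n, hn⟩, ?_⟩
    simp [hf, (QuotientGroup.eq_one_iff l).2 hl]
  obtain ⟨Q₀, rfl⟩ := Sylow.mapSurjective_surjective hsurj q Q
  set A : Subgroup G := (Q₀ : Subgroup (normalizer (V : Set G))).map (normalizer (V : Set G)).subtype with hA
  have hAV : A ≤ normalizer (V : Set G) := map_subtype_le _
  have hAp : IsPGroup q A := Q₀.2.map _
  have hVs : IsPGroup s V := S.2.map _
  by_contra hno
  have hfpf : Cfsg.Lib.Frobenius.Fpf A V := by
    intro a ha ha1
    rw [eq_bot_iff]
    rintro w ⟨hw, hwc⟩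
    by_contra hw1
    refine hno (edge_of_commute (a := a) (w := w) ?_ Fact.out Fact.out hqs (prime_dvd_orderOf hAp ha ha1)
      (prime_dvd_orderOf hVs hw (fun e => hw1 (mem_bot.2 e))))
    exact (mem_centralizer_singleton_iff.1 hwc).symm
  have hVne : V ≠ ⊥ := by
    intro h
    rw [hV, Subgroup.map_eq_bot_iff_of_injective _ L.subtype_injective] at h
    exact S.ne_bot_of_dvd_card hs h
  rcases hfpf.isCyclic_or_quaternion hAV hVne hAp with hc | ⟨h2, -⟩
  · apply hQ
    haveI := hc
    haveI : IsCyclic (Q₀ : Subgroup (normalizer (V : Set G))) :=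
      isCyclic_of_surjective _
        (Subgroup.equivMapOfInjective _ _ (normalizer (V : Set G)).subtype_injective).symm.surjective
    rw [Sylow.coe_mapSurjective]
    exact isCyclic_of_surjective _ (MonoidHom.subgroupMap_surjective f (Q₀ : Subgroup (normalizer (V : Set G))))
  · exact hq2 h2

end Cfsg.Lib.SameGraph
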