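import Mathlib

/-!
Induced modules from a normal subgroup, and a transfer lemma for central kernels.
-/

set_option autoImplicit false

namespace Cfsg.Lib.SameGraph

open Subgroup

universe u

section Induce

variable {Γ : Type} [Group Γ] {W : Type} [CommGroup W] (B : Subgroup Γ) (φ : B →* MulAut W)

/-- The induced module. -/
def indSub : Subgroup (Γ → W) where
  carrier := {f | ∀ (b : B) (g : Γ), f (b * g) = φ b (f g)}
  one_mem' := fun b g => by simp
  mul_mem' := fun {f f'} hf hf' b g => by simp [hf b g, hf' b g]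
  inv_mem' := fun {f} hf b g => by simp [hf b g]

/-- Right translation on the induced module. -/
def indAut : Γ →* MulAut (indSub B φ) where
  toFun e :=
    { toFun := fun f => ⟨fun g => f.1 (g * e), fun b g => by simpa [mul_assoc] using f.2 b (g * e)⟩
      invFun := fun f => ⟨fun g => f.1 (g * e⁻¹), fun b g => by simpa [mul_assoc] using f.2 b (g * e⁻¹)⟩
      left_inv := fun f => Subtype.ext (funext fun g => by simp [mul_assoc])
      right_inv := fun f => Subtype.ext (funext fun g => by simp [mul_assoc])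
      map_mul' := fun f f' => rfl }
  map_one' := MulEquiv.ext fun f => Subtype.ext (funext fun g => by simp)
  map_mul' a b := MulEquiv.ext fun f => Subtype.ext (funext fun g => by simp [mul_assoc])

@[simp] theorem indAut_apply (e : Γ) (f : indSub B φ) (g : Γ) : (indAut B φ e f).1 g = f.1 (g * e) := rfl

/-- An element all of whose conjugates lie in `B` and fix only `1` fixes only `1` in the induced module. -/
theorem indAut_fpf (e : Γ) (h : ∀ g : Γ, ∃ b : B, (b : Γ) = g * e * g⁻¹ ∧ ∀ w : W, φ b w = w → w = 1)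
    (f : indSub B φ) (hf : indAut B φ e f = f) : f = 1 := by
  refine Subtype.ext (funext fun g => ?_)
  obtain ⟨b, hb, hfp⟩ := h g
  apply hfp
  rw [← f.2 b g, hb, inv_mul_cancel_right, ← indAut_apply, hf]

theorem indSub_nontrivial [Nontrivial W] : Nontrivial (indSub B φ) := by
  classical
  obtain ⟨w, hw⟩ := exists_ne (1 : W)
  let f : Γ → W := fun g => if h : g ∈ B then φ ⟨g, h⟩ w else 1
  have hf : f ∈ indSub B φ := by
    intro b g
    by_cases hg : g ∈ B
    · have hbg : (b : Γ) * g ∈ B := mul_mem b.2 hg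
      simp only [f, dif_pos hbg, dif_pos hg]
      rw [← MulAut.mul_apply, ← map_mul]
      rfl
    · have hbg : (b : Γ) * g ∉ B := fun h => hg (by simpa using mul_mem (inv_mem b.2) h)
      simp only [f, dif_neg hbg, dif_neg hg, map_one]
  refine ⟨⟨f, hf⟩, 1, fun h => hw ?_⟩
  have h1 := congrFun (Subtype.ext_iff.1 h) 1
  have h2 : f 1 = w := by
    simp only [f, dif_pos (one_mem B)]
    rw [show (⟨1, one_mem B⟩ : B) = 1 from rfl, map_one]
    rfl
  exact h2.symm.trans h1

end Induce

/-- A group generated by `q'`-elements has no central `q`-part below a cyclic Sylow image. -/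
theorem not_dvd_central_ker {B : Type u} [Group B] [Finite B] {Γ : Type*} [Group Γ] (f : B →* Γ)
    (hker : f.ker ≤ center B) {q : ℕ} [Fact q.Prime] (hgen : closure {b : B | ¬ q ∣ orderOf b} = ⊤)
    (hcyc : ∀ P : Sylow q B, IsCyclic ((P : Subgroup B).map f)) : ¬ q ∣ Nat.card f.ker := by
  classical
  intro hdvd
  have hq : q.Prime := Fact.out
  obtain ⟨z, hz⟩ := exists_prime_orderOf_dvd_card' q hdvd
  have hzord : orderOf (z : B) = q := by rw [Subgroup.orderOf_coe, hz]
  have hzc : (z : B) ∈ center B := hker z.2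
  have hzn : (zpowers (z : B)).Normal := by
    refine ⟨fun x hx g => ?_⟩
    have hxc : x ∈ center B := zpowers_le.2 hzc hx
    rwa [mem_center_iff.1 hxc g, mul_inv_cancel_right]
  have hzp : IsPGroup q (zpowers (z : B)) := IsPGroup.of_card (n := 1) (by rw [Nat.card_zpowers, hzord, pow_one])
  obtain ⟨P, hP⟩ := hzp.exists_le_sylow
  haveI := hcyc P
  let g : P.1 →* (P : Subgroup B).map f := f.subgroupMap P.1
  have hg : g.ker ≤ center P.1 := by
    intro x hx
    have hxk : (x : B) ∈ f.ker := congrArg Subtype.val (MonoidHom.mem_ker.1 hx)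
    exact mem_center_iff.2 fun y => Subtype.ext (mem_center_iff.1 (hker hxk) y)
  letI : CommGroup P.1 :=
    { (inferInstance : Group P.1) with mul_comm := fun a b => commutative_of_cyclic_center_quotient g hg a b }
  let τ : B →* P.1 := MonoidHom.transfer (MonoidHom.id P.1)
  have hτ1 : τ = 1 := by
    refine MonoidHom.eq_of_eqOn_dense hgen fun b hb => ?_
    obtain ⟨i, hi⟩ := IsPGroup.iff_orderOf.1 P.2 (τ b)
    have hd : orderOf (τ b) ∣ orderOf b := orderOf_map_dvd τ b
    rw [hi] at hd
    rcases i.eq_zero_or_pos with rfl | hi0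
    · rw [pow_zero] at hi
      simpa using orderOf_eq_one_iff.1 hi
    · exact absurd ((dvd_pow_self q hi0.ne').trans hd) hb
  have key : ∀ (k : ℕ) (g₀ : B), g₀⁻¹ * (z : B) ^ k * g₀ ∈ P.1 → g₀⁻¹ * (z : B) ^ k * g₀ = (z : B) ^ k := by
    intro k g₀ _
    rw [mul_assoc, ← mem_center_iff.1 (pow_mem hzc k) g₀, inv_mul_cancel_left]
  have h := MonoidHom.transfer_eq_pow (MonoidHom.id P.1) (z : B) key
  have h' : (1 : P.1) = ⟨(z : B) ^ P.1.index, MonoidHom.transfer_eq_pow_aux (z : B) key⟩ := by
    rw [← MonoidHom.one_apply (N := P.1) (z : B), ← hτ1]; exact h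
  have hpow : (z : B) ^ P.1.index = 1 := (congrArg Subtype.val h').symm
  have hd := orderOf_dvd_of_pow_eq_one hpow
  rw [hzord] at hd
  exact P.not_dvd_index hd

end Cfsg.Lib.SameGraph
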