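import Cfsg.Agent.SameGraph.Basic
import Cfsg.Agent.SameGraph.Induce
import Cfsg.Agent.PrimeGraph.ExtensionAct
import Cfsg.Agent.OddLocal.FixedPointFreeGroup
import Cfsg.Agent.Coprime.Sylow
import Cfsg.Agent.Coprime.Generation

/-!
If every odd prime divisor of a normal subgroup `L` of even order is adjacent to `2`, there are groups
of unbounded order with the prime graph of `G`.

The module is induced from the action of a normaliser of a Sylow `2`-subgroup `P` of `L` on the involutions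
of `Z(P)`; elements of primes not adjacent to `2` act there without fixed points, hence centralise the image
of `L`, and a transfer argument controls the primes of the kernel that is left.
-/

set_option autoImplicit false
set_option linter.style.haveILetI false

namespace Cfsg.Lib.SameGraph

open Subgroup

variable {G : Type} [Group G] [Finite G]

/-- `r` is an odd prime divisor not adjacent to `2`. -/
def Bad (G : Type) [Group G] (r : ℕ) : Prop :=
  r.Prime ∧ r ≠ 2 ∧ r ∣ Nat.card G ∧ ¬ ∃ g : G, orderOf g = 2 * r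

theorem mem_zpowers_pow_of_coprime {H : Type*} [Group H] {e : H} {k : ℕ} (h : k.Coprime (orderOf e)) :
    e ∈ zpowers (e ^ k) :=
  mem_zpowers_pow_iff.2 h

theorem pow_fixed {H : Type*} [Group H] {W : Type*} [Group W] (φ : H →* MulAut W) {x : H} {w : W}
    (h : φ x w = w) (n : ℕ) : φ (x ^ n) w = w := by
  induction n with
  | zero => simp
  | succ n ih => rw [pow_succ, map_mul, MulAut.mul_apply, h, ih]

theorem map_fixed_of_prime {H : Type*} [Group H] {W : Type*} [Group W] (φ : H →* MulAut W) {x : H} {k r : ℕ}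
    (hr : r.Prime) (hx : orderOf x = r) (hk : ¬ r ∣ k) {w : W} (h : φ (x ^ k) w = w) : φ x w = w := by
  have hcop : k.Coprime (orderOf x) := hx ▸ (hr.coprime_iff_not_dvd.2 hk).symm
  obtain ⟨i, hi⟩ := mem_zpowers_iff.1 (mem_zpowers_pow_of_coprime hcop)
  let S : Subgroup (MulAut W) :=
    { carrier := {f | f w = w}
      one_mem' := rfl
      mul_mem' := fun {a b} ha hb => show a (b w) = w by rw [show b w = w from hb]; exact ha
      inv_mem' := fun {a} ha => show a⁻¹ w = w by
        conv_lhs => rw [← show a w = w from ha]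
        exact a.symm_apply_apply w }
  have h1 : φ (x ^ k) ∈ S := h
  have h2 := zpow_mem h1 i
  rw [← map_zpow, hi] at h2
  exact h2

/-- A lift of a prime order element to one of the same order. -/
theorem lift_prime {H : Type*} [Group H] (C : Subgroup H) [C.Normal] [Finite H] {s : H} {r : ℕ} (hr : r.Prime)
    (hs : orderOf (QuotientGroup.mk' C s) = r) (hC : ¬ r ∣ Nat.card C) :
    orderOf (s ^ Nat.card C) = r := by
  haveI := Fact.mk hr
  refine orderOf_eq_prime ?_ ?_
  · have hmem : s ^ r ∈ C := by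
      rw [← QuotientGroup.eq_one_iff, QuotientGroup.mk_pow]
      exact hs ▸ pow_orderOf_eq_one (QuotientGroup.mk' C s)
    have h := congrArg Subtype.val (pow_card_eq_one' (x := (⟨s ^ r, hmem⟩ : C)) : (⟨s ^ r, hmem⟩ : C) ^ Nat.card C = 1)
    rw [← pow_mul, mul_comm, pow_mul]
    exact h
  · intro h
    have h1 : (QuotientGroup.mk' C s) ^ Nat.card C = 1 := by rw [← map_pow, h, map_one]
    have h2 := orderOf_dvd_of_pow_eq_one h1
    rw [hs] at h2
    exact hC h2

/-- The reduction of a fixed point free module for the prime set to groups with the same graph. -/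
theorem unbounded_of_section (L : Subgroup G) [L.Normal] (h2 : 2 ∣ Nat.card L)
    (hadj : ∀ q : ℕ, q.Prime → q ≠ 2 → q ∣ Nat.card L → ∃ g : G, orderOf g = 2 * q)
    {E : Type} [Group E] [Finite E] (π : E →* G ⧸ L) (hπ : Function.Surjective π)
    (hsec : ∀ n : ℕ, (∃ e : E, orderOf e = n) → ∃ g : G, orderOf g = n)
    (hker : ∀ q : ℕ, q.Prime → q ∣ Nat.card π.ker → q ∣ Nat.card L ∧
      ∀ s : ℕ, s.Prime → s ≠ q → s ∣ Nat.card L → ∃ g : G, orderOf g = q * s)
    {M : Type} [CommGroup M] [Finite M] [Nontrivial M] (hM : ∀ z : M, z ^ 2 = 1) (ρ : E →* MulAut M)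
    (hfpf : ∀ e : E, Bad G (orderOf e) → ∀ m : M, ρ e m = m → m = 1) : Unbounded G := by
  classical
  haveI : Fact (Nat.Prime 2) := ⟨Nat.prime_two⟩
  set Gt : Subgroup (G × E) :=
    MonoidHom.eqLocus ((QuotientGroup.mk' L).comp (MonoidHom.fst G E)) (π.comp (MonoidHom.snd G E)) with hGt
  have hmemGt : ∀ (g : G) (e : E), (g, e) ∈ Gt ↔ QuotientGroup.mk' L g = π e := fun g e => Iff.rfl
  let pr : Gt →* G := (MonoidHom.fst G E).comp Gt.subtype
  let ps : Gt →* E := (MonoidHom.snd G E).comp Gt.subtype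
  have hprs : Function.Surjective pr := fun g => by
    obtain ⟨e, he⟩ := hπ (QuotientGroup.mk' L g)
    exact ⟨⟨(g, e), (hmemGt g e).2 he.symm⟩, rfl⟩
  have hord : ∀ y : Gt, orderOf y = Nat.lcm (orderOf (pr y)) (orderOf (ps y)) := fun y => by
    rw [← Subgroup.orderOf_coe, Prod.orderOf]; rfl
  have hmix : ∀ (y : Gt) (u v : ℕ), u.Prime → v.Prime → u ≠ v → orderOf (pr y) = u → orderOf (ps y) = v →
      ∃ g : G, orderOf g = u * v := by
    intro y u v hu hv huv hg he
    have heq : QuotientGroup.mk' L (pr y) = π (ps y) := (hmemGt (pr y) (ps y)).1 y.2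
    have h1 : orderOf (π (ps y)) ∣ v := he ▸ orderOf_map_dvd π (ps y)
    have h2' : orderOf (π (ps y)) ∣ u := by
      rw [← heq]; exact hg ▸ orderOf_map_dvd (QuotientGroup.mk' L) (pr y)
    have h3 : π (ps y) = 1 := orderOf_eq_one_iff.1 (Nat.dvd_one.1
      (((Nat.coprime_primes hu hv).2 huv) ▸ Nat.dvd_gcd h2' h1))
    have hgL : pr y ∈ L := (QuotientGroup.eq_one_iff _).1 (heq.trans h3)
    have hvk : v ∣ Nat.card π.ker := he ▸ Subgroup.orderOf_dvd_natCard π.ker (MonoidHom.mem_ker.2 h3)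
    have huL : u ∣ Nat.card L := hg ▸ Subgroup.orderOf_dvd_natCard L hgL
    rw [mul_comm]
    exact (hker v hv hvk).2 u hu huv huL
  have hedge : ∀ u v : ℕ, u.Prime → v.Prime → u ≠ v →
      ((∃ y : Gt, orderOf y = u * v) ↔ ∃ g : G, orderOf g = u * v) := by
    refine fun u v hu hv huv => ⟨?_, fun h => lift_order pr hprs h⟩
    rintro ⟨y, hy⟩
    rw [hord] at hy
    set a := orderOf (pr y)
    set b := orderOf (ps y)
    have hcop := (Nat.coprime_primes hu hv).2 huv
    have ha : a ∣ u * v := hy ▸ Nat.dvd_lcm_left a b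
    have hb : b ∣ u * v := hy ▸ Nat.dvd_lcm_right a b
    have hab : u * v ∣ a * b := hy ▸ Nat.lcm_dvd_mul a b
    have hua : u ∣ a ∨ u ∣ b := hu.dvd_mul.1 ((dvd_mul_right u v).trans hab)
    have hva : v ∣ a ∨ v ∣ b := hv.dvd_mul.1 ((dvd_mul_left v u).trans hab)
    by_cases hA : u ∣ a ∧ v ∣ a
    · exact ⟨pr y, Nat.dvd_antisymm ha (hcop.mul_dvd_of_dvd_of_dvd hA.1 hA.2)⟩
    by_cases hB : u ∣ b ∧ v ∣ b
    · exact hsec _ ⟨ps y, Nat.dvd_antisymm hb (hcop.mul_dvd_of_dvd_of_dvd hB.1 hB.2)⟩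
    rcases hua with h1 | h1
    · have h3 : ¬ v ∣ a := fun h => hA ⟨h1, h⟩
      have h4 : v ∣ b := hva.resolve_left h3
      have h5 : ¬ u ∣ b := fun h => hB ⟨h, h4⟩
      have e1 : a = u := Nat.dvd_antisymm ((hv.coprime_iff_not_dvd.2 h3).symm.dvd_of_dvd_mul_right ha) h1
      have e2 : b = v := Nat.dvd_antisymm ((hu.coprime_iff_not_dvd.2 h5).symm.dvd_of_dvd_mul_left hb) h4
      exact hmix y u v hu hv huv e1 e2
    · have h3 : ¬ v ∣ b := fun h => hB ⟨h1, h⟩
      have h4 : v ∣ a := hva.resolve_right h3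
      have h5 : ¬ u ∣ a := fun h => hA ⟨h, h4⟩
      have e1 : a = v := Nat.dvd_antisymm ((hu.coprime_iff_not_dvd.2 h5).symm.dvd_of_dvd_mul_left ha) h4
      have e2 : b = u := Nat.dvd_antisymm ((hv.coprime_iff_not_dvd.2 h3).symm.dvd_of_dvd_mul_right hb) h1
      rw [mul_comm]
      exact hmix y v u hv hu huv.symm e1 e2
  have hprimes : ∀ q : ℕ, q.Prime → (q ∣ Nat.card Gt ↔ q ∣ Nat.card G) := by
    intro q hq
    refine ⟨fun hd => ?_, fun hd => hd.trans (Subgroup.card_dvd_of_surjective pr hprs)⟩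
    haveI := Fact.mk hq
    obtain ⟨y, hy⟩ := exists_prime_orderOf_dvd_card' q hd
    by_cases h1 : pr y = 1
    · rw [hord, h1, orderOf_one, Nat.lcm_one_left] at hy
      have hk : π (ps y) = 1 := by
        rw [← (hmemGt (pr y) (ps y)).1 y.2, h1, map_one]
      have hqk : q ∣ Nat.card π.ker := hy ▸ Subgroup.orderOf_dvd_natCard π.ker (MonoidHom.mem_ker.2 hk)
      exact (hker q hq hqk).1.trans (Subgroup.card_subgroup_dvd_card L)
    · have h := hy ▸ orderOf_map_dvd pr y
      rw [← ((Nat.dvd_prime hq).1 h).resolve_left (fun e => h1 (orderOf_eq_one_iff.1 e))]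
      exact orderOf_dvd_natCard _
  have h2G : 2 ∣ Nat.card G := h2.trans (Subgroup.card_subgroup_dvd_card L)
  set ρt : Gt →* MulAut M := ρ.comp ps with hρt
  intro N
  obtain ⟨H, iH, iHf, hN, hHp, hHe⟩ :=
    Cfsg.Lib.PrimeGraph.extension_edges hM ρt ((hprimes 2 Nat.prime_two).2 h2G) N
  refine ⟨H, iH, iHf, hN, fun q hq => ((hprimes q hq).symm.trans (hHp q hq).symm),
    fun u v hu hv huv => ⟨fun h => (hHe u v hu hv huv).2 (Or.inl ((hedge u v hu hv huv).2 h)), ?_⟩⟩
  intro h
  have hfix : ∀ s : ℕ, s.Prime → s ≠ 2 → Cfsg.Lib.PrimeGraph.HasFixed ρt s →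
      ∃ g : G, orderOf g = 2 * s := by
    rintro s hs hs2 ⟨y, hy, m, hm, hfixm⟩
    by_contra hno
    have hsGt : s ∣ Nat.card Gt := hy ▸ orderOf_dvd_natCard y
    have hbad : Bad G s := ⟨hs, hs2, (hprimes s hs).1 hsGt, hno⟩
    have hsL : ¬ s ∣ Nat.card L := fun hd => hno (hadj s hs hs2 hd)
    have hb : orderOf (ps y) ∣ s := hy ▸ orderOf_map_dvd ps y
    rcases (Nat.dvd_prime hs).1 hb with h1 | h1
    · have he : ps y = 1 := orderOf_eq_one_iff.1 h1
      have hgL : pr y ∈ L := by
        rw [← QuotientGroup.eq_one_iff]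
        exact ((hmemGt (pr y) (ps y)).1 y.2).trans (by rw [he, map_one])
      rw [hord, h1, Nat.lcm_one_right] at hy
      exact hsL (hy ▸ Subgroup.orderOf_dvd_natCard L hgL)
    · exact hm (hfpf (ps y) (h1.symm ▸ hbad) m hfixm)
  rcases (hHe u v hu hv huv).1 h with h1 | ⟨rfl, h1⟩ | ⟨rfl, h1⟩
  · exact (hedge u v hu hv huv).1 h1
  · exact hfix v hv huv.symm h1
  · rw [mul_comm]; exact hfix u hu huv h1

/-- Nilpotency of the intersection with a minimal supplement. -/
theorem supplement_nilpotent {X : Type} [Group X] [Finite X] (A : Subgroup X) [A.Normal] (S : Subgroup X)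
    (hS : S ⊔ A = ⊤) (hmin : ∀ T : Subgroup X, T ≤ S → T ⊔ A = ⊤ → T = S) :
    Group.IsNilpotent (A.subgroupOf S) := by
  have hle : A.subgroupOf S ≤ frattini S := by
    refine le_iInf₂ fun M hM => ?_
    by_contra hnot
    have htop : M ⊔ A.subgroupOf S = ⊤ := hM.2 _ (left_lt_sup.2 hnot)
    have h1 : (M ⊔ A.subgroupOf S).map S.subtype ⊔ A = ⊤ := by
      rw [htop, ← MonoidHom.range_eq_map, Subgroup.range_subtype, hS]
    rw [Subgroup.map_sup, sup_assoc, sup_eq_right.2
      (Subgroup.map_le_iff_le_comap.2 (le_refl (A.subgroupOf S)))] at h1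
    have h2 := hmin (M.map S.subtype) (Subgroup.map_subtype_le M) h1
    refine hM.1 ?_
    rw [← Subgroup.comap_map_eq_self_of_injective S.subtype_injective M, h2, ← Subgroup.subgroupOf,
      Subgroup.subgroupOf_self]
  haveI : Group.IsNilpotent (frattini S) := frattini_nilpotent
  exact Group.nilpotent_of_mulEquiv (Subgroup.subgroupOfEquivOfLe hle)

/-- The main construction. -/
theorem unbounded_of_adjacent (L : Subgroup G) [L.Normal] (h2 : 2 ∣ Nat.card L)
    (hadj : ∀ q : ℕ, q.Prime → q ≠ 2 → q ∣ Nat.card L → ∃ g : G, orderOf g = 2 * q) : Unbounded G := by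
  classical
  haveI : Fact (Nat.Prime 2) := ⟨Nat.prime_two⟩
  obtain ⟨P⟩ := (inferInstance : Nonempty (Sylow 2 L))
  set PG : Subgroup G := (P : Subgroup L).map L.subtype with hPG
  set N : Subgroup G := normalizer (PG : Set G) with hN
  have hPN : PG ≤ N := le_normalizer
  have hPL : PG ≤ L := map_subtype_le _
  -- the module
  set Z : Subgroup G := PG ⊓ centralizer (PG : Set G) with hZ
  have hZc : ∀ a ∈ Z, ∀ b ∈ Z, a * b = b * a := fun a ha b hb => (ha.2 b hb.1).symm
  let W : Subgroup G :=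
    { carrier := {z | z ∈ Z ∧ z ^ 2 = 1}
      one_mem' := ⟨one_mem _, one_pow _⟩
      mul_mem' := fun {a b} ha hb => ⟨mul_mem ha.1 hb.1, by
        rw [(show Commute a b from hZc a ha.1 b hb.1).mul_pow, ha.2, hb.2, one_mul]⟩
      inv_mem' := fun {a} ha => ⟨inv_mem ha.1, by rw [inv_pow, ha.2, inv_one]⟩ }
  letI : CommGroup W :=
    { (inferInstance : Group W) with mul_comm := fun a b => Subtype.ext (hZc a a.2.1 b b.2.1) }
  have hW2 : ∀ z : W, z ^ 2 = 1 := fun z => Subtype.ext z.2.2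
  have hWne : Nontrivial W := by
    have hP2 : IsPGroup 2 PG := P.2.map _
    haveI : Nontrivial PG := by
      rw [nontrivial_iff_ne_bot, hPG, ne_eq, Subgroup.map_eq_bot_iff_of_injective _ L.subtype_injective]
      exact P.ne_bot_of_dvd_card h2
    haveI := hP2.center_nontrivial
    obtain ⟨k, hk, hkc⟩ := (hP2.to_subgroup (center PG)).nontrivial_iff_card.1 inferInstance
    obtain ⟨z, hz⟩ := exists_prime_orderOf_dvd_card' 2 (hkc ▸ dvd_pow_self 2 hk.ne' : 2 ∣ Nat.card (center PG))
    have hzG : orderOf ((z : PG) : G) = 2 := by rw [Subgroup.orderOf_coe, Subgroup.orderOf_coe, hz]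
    have hzmem : ((z : PG) : G) ∈ W := by
      refine ⟨⟨(z : PG).2, fun g hg => congrArg Subtype.val (mem_center_iff.1 z.2 ⟨g, hg⟩)⟩, ?_⟩
      rw [← hzG, pow_orderOf_eq_one]
    refine ⟨⟨_, hzmem⟩, 1, fun h => ?_⟩
    have h1 : ((z : PG) : G) = 1 := congrArg Subtype.val h
    rw [h1, orderOf_one] at hzG
    omega
  have hWN : ∀ n ∈ N, ∀ w ∈ W, n * w * n⁻¹ ∈ W := by
    intro n hn w hw
    refine ⟨⟨(mem_normalizer_iff.1 hn w).1 hw.1.1, fun g hg => ?_⟩, ?_⟩
    · have hg' : n⁻¹ * g * n ∈ PG := (mem_normalizer_iff.1 hn _).2 (by simpa [mul_assoc] using hg)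
      have h := hw.1.2 _ hg'
      calc g * (n * w * n⁻¹) = n * ((n⁻¹ * g * n) * w) * n⁻¹ := by group
        _ = n * (w * (n⁻¹ * g * n)) * n⁻¹ := by rw [h]
        _ = n * w * n⁻¹ * g := by group
    · rw [conj_pow, hw.2, mul_one, mul_inv_cancel]
  let φ : N →* MulAut W :=
    { toFun := fun n =>
        { toFun := fun w => ⟨n * w * (n : G)⁻¹, hWN n n.2 w w.2⟩
          invFun := fun w => ⟨(n : G)⁻¹ * w * n, by simpa using hWN _ (inv_mem n.2) w w.2⟩
          left_inv := fun w => Subtype.ext (by simp [mul_assoc])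
          right_inv := fun w => Subtype.ext (by simp [mul_assoc])
          map_mul' := fun a b => Subtype.ext (by simp [mul_assoc]) }
      map_one' := MulEquiv.ext fun w => Subtype.ext (by simp)
      map_mul' := fun a b => MulEquiv.ext fun w => Subtype.ext (by simp [mul_assoc]) }
  -- odd primes without an edge to two act without fixed points
  have hbadfix : ∀ n : N, Bad G (orderOf n) → ∀ w : W, φ n w = w → w = 1 := by
    intro n hb w hw
    by_contra hw1
    have hc : Commute (n : G) (w : G) := mul_inv_eq_iff_eq_mul.1 (congrArg Subtype.val hw)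
    have hwo : orderOf (w : G) = 2 := by
      rw [Subgroup.orderOf_coe]; exact orderOf_eq_prime (hW2 w) hw1
    refine hb.2.2.2 ?_
    rw [mul_comm]
    exact edge_of_commute hc hb.1 Nat.prime_two hb.2.1 (by rw [Subgroup.orderOf_coe]) (by rw [hwo])
  have hbadL : ∀ r, Bad G r → ¬ r ∣ Nat.card L := fun r hb hd => hb.2.2.2 (hadj r hb.1 hb.2.1 hd)
  -- the quotient by the kernel inside `L`
  set A₀ : Subgroup N := L.subgroupOf N with hA₀
  set C₀ : Subgroup N := φ.ker ⊓ A₀ with hC₀
  haveI : C₀.Normal := inferInstance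
  have hPC : PG.subgroupOf N ≤ C₀ := by
    intro a ha
    refine ⟨MonoidHom.mem_ker.2 (MulEquiv.ext fun w => Subtype.ext ?_), hPL ha⟩
    show (a : G) * w * (a : G)⁻¹ = w
    rw [mul_inv_eq_iff_eq_mul]
    exact w.2.1.2 _ ha
  have hA₀L : Nat.card A₀ ∣ Nat.card L := Subgroup.card_comap_dvd_of_injective L N.subtype N.subtype_injective
  have hC₀L : Nat.card C₀ ∣ Nat.card L := (Subgroup.card_dvd_of_le inf_le_right).trans hA₀L
  set π₀ : N →* G ⧸ L := (QuotientGroup.mk' L).comp N.subtype with hπ₀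
  have hπ₀s : Function.Surjective π₀ := by
    intro y
    obtain ⟨g, rfl⟩ := QuotientGroup.mk'_surjective L y
    have hg : g ∈ N ⊔ L := by rw [hN, hPG, Sylow.normalizer_sup_eq_top]; trivial
    obtain ⟨n, hn, l, hl, rfl⟩ := Subgroup.mem_sup_of_normal_right.1 hg
    refine ⟨⟨n, hn⟩, ?_⟩
    simp [hπ₀, (QuotientGroup.eq_one_iff l).2 hl]
  set mkC := QuotientGroup.mk' C₀ with hmkC
  let πX : N ⧸ C₀ →* G ⧸ L :=
    QuotientGroup.lift C₀ π₀ (fun a ha => (QuotientGroup.eq_one_iff _).2 ha.2)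
  let φX : N ⧸ C₀ →* MulAut W := QuotientGroup.lift C₀ φ (fun a ha => ha.1)
  set A : Subgroup (N ⧸ C₀) := A₀.map mkC with hA
  haveI : A.Normal := (inferInstance : A₀.Normal).map _ (QuotientGroup.mk'_surjective C₀)
  have hAker : πX.ker = A := by
    ext x
    obtain ⟨a, rfl⟩ := QuotientGroup.mk'_surjective C₀ x
    constructor
    · intro h
      have h' : π₀ a = 1 := h
      exact mem_map_of_mem _ (show (a : G) ∈ L from (QuotientGroup.eq_one_iff (a : G)).1 h')
    · rintro ⟨b, hb, hba⟩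
      rw [MonoidHom.mem_ker, ← hba]
      exact (QuotientGroup.eq_one_iff _).2 hb
  have hAcard : Nat.card A * Nat.card C₀ = Nat.card A₀ := by
    have h := Subgroup.card_eq_card_quotient_mul_card_subgroup (C₀.subgroupOf A₀)
    have e1 : Nat.card (A₀ ⧸ C₀.subgroupOf A₀) = Nat.card A := by
      let f : A₀ →* A := mkC.subgroupMap A₀
      have hk : f.ker = C₀.subgroupOf A₀ := by
        ext a
        rw [MonoidHom.mem_ker, mem_subgroupOf, Subtype.ext_iff, ← QuotientGroup.eq_one_iff]
        rfl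
      rw [← hk]
      exact Nat.card_congr (QuotientGroup.quotientKerEquivOfSurjective f (mkC.subgroupMap_surjective A₀)).toEquiv
    rw [e1, Nat.card_congr (Subgroup.subgroupOfEquivOfLe (inf_le_right : C₀ ≤ A₀)).toEquiv] at h
    exact h.symm
  have hAL : Nat.card A ∣ Nat.card L := (dvd_mul_right _ _).trans (hAcard ▸ hA₀L)
  have hAodd : ¬ 2 ∣ Nat.card A := by
    intro hd
    have h1 : Nat.card A * Nat.card PG ∣ Nat.card L := by
      refine dvd_trans (mul_dvd_mul_left _ ?_) (hAcard ▸ hA₀L)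
      rw [← Nat.card_congr (Subgroup.subgroupOfEquivOfLe hPN).toEquiv]
      exact Subgroup.card_dvd_of_le hPC
    rw [hPG, Subgroup.card_map_of_injective L.subtype_injective] at h1
    obtain ⟨t, ht⟩ := hd
    rw [ht, ← (P : Subgroup L).card_mul_index] at h1
    refine P.not_dvd_index ?_
    rw [show 2 * t * Nat.card (P : Subgroup L) = Nat.card (P : Subgroup L) * (2 * t) by ring] at h1
    exact (dvd_mul_right 2 t).trans (Nat.dvd_of_mul_dvd_mul_left Nat.card_pos h1)
  have hbadX : ∀ x : N ⧸ C₀, Bad G (orderOf x) → ∀ w : W, φX x w = w → w = 1 := by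
    intro x hb w hw
    obtain ⟨n, rfl⟩ := QuotientGroup.mk'_surjective C₀ x
    have hr : ¬ orderOf (QuotientGroup.mk' C₀ n) ∣ Nat.card C₀ := fun h => hbadL _ hb (h.trans hC₀L)
    refine hbadfix (n ^ Nat.card C₀) ?_ w (pow_fixed φ hw _)
    rw [lift_prime C₀ hb.1 rfl hr]
    exact hb
  have hcentA : ∀ x : N ⧸ C₀, Bad G (orderOf x) → x ∈ centralizer (A : Set (N ⧸ C₀)) := by
    intro x hb
    have hrA : (Nat.card (zpowers x)).Coprime (Nat.card A) := by
      rw [Nat.card_zpowers, hb.1.coprime_iff_not_dvd]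
      exact fun h => hbadL _ hb (h.trans hAL)
    have hle : A ≤ centralizer {x} := by
      refine Cfsg.Lib.Coprime.le_of_forall_sylow fun q hq => ?_
      haveI := Fact.mk hq
      obtain ⟨S, hS⟩ := Cfsg.Lib.Coprime.exists_invariant_sylow (A := zpowers x) (K := A)
        (by rw [normalizer_eq_top_iff.2 inferInstance]; exact le_top) hrA (Or.inl inferInstance) q
      refine ⟨S, fun u hu => ?_⟩
      by_cases hqA : q ∣ Nat.card A
      · have hq2 : q ≠ 2 := fun h => hAodd (h ▸ hqA)
        have hrq : orderOf x ≠ q := fun h => hbadL _ hb (h ▸ hqA.trans hAL)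
        have hcomm := Cfsg.Lib.OddP.commute_of_no_fixed_elementary (M := W) (p := 2) hW2 φX x hb.1 hq hrq
          hq2 hb.2.1 hq2 (pow_orderOf_eq_one x) (hbadX x hb) _ (S.2.map _) (hS (mem_zpowers x)) u hu
        rw [mem_centralizer_singleton_iff]
        have huA : u ∈ A := map_subtype_le _ hu
        have hk : u * x * u⁻¹ * x⁻¹ ∈ A := by
          have := A.mul_mem huA (Normal.conj_mem (inferInstance : A.Normal) u⁻¹ (inv_mem huA) x)
          simpa [mul_assoc] using this
        obtain ⟨a, ha, hae⟩ := hk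
        have h1 : φX (u * x * u⁻¹ * x⁻¹) = 1 := by
          rw [map_mul, map_mul, map_mul, map_inv, map_inv, ← hcomm]
          group
        rw [← hae] at h1
        have h2' : mkC a = 1 := (QuotientGroup.eq_one_iff a).2 ⟨h1, ha⟩
        rw [h2'] at hae
        exact commutatorElement_eq_one_iff_mul_comm.1 (by rw [commutatorElement_def]; exact hae.symm)
      · have hbot : (S : Subgroup A) = ⊥ := by
          refine eq_bot_iff_forall _ |>.2 fun a ha => ?_
          by_contra ha1
          exact hqA ((prime_dvd_orderOf S.2 ha ha1).trans (orderOf_dvd_natCard a))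
        rw [hbot, Subgroup.map_bot, mem_bot] at hu
        rw [hu]; exact one_mem _
    exact mem_centralizer_iff.2 fun a ha => mem_centralizer_singleton_iff.1 (hle ha)
  -- a minimal supplement
  obtain ⟨S₀, -, hS₀, hS₀min⟩ := Finite.exists_le_minimal (α := Subgroup (N ⧸ C₀))
    (p := fun S => S ⊔ A = ⊤) (a := ⊤) (top_sup_eq A)
  set K : Subgroup S₀ := A.subgroupOf S₀ with hK
  haveI hKnil : Group.IsNilpotent K :=
    supplement_nilpotent A S₀ hS₀ fun T hT hTA => le_antisymm hT (hS₀min hTA hT)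
  have hKL : Nat.card K ∣ Nat.card L :=
    (Subgroup.card_comap_dvd_of_injective A S₀.subtype S₀.subtype_injective).trans hAL
  set B : Subgroup S₀ := closure {s : S₀ | Bad G (orderOf s)} with hB
  haveI hBn : B.Normal := by
    suffices hst : ∀ g : S₀, ∀ s ∈ {s : S₀ | Bad G (orderOf s)}, g * s * g⁻¹ ∈ {s : S₀ | Bad G (orderOf s)} by
      refine ⟨fun b hb g => ?_⟩
      induction hb using closure_induction with
      | mem s hs => exact subset_closure (hst g s hs)
      | one => simp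
      | mul a c _ _ ha hc =>
        rw [show g * (a * c) * g⁻¹ = (g * a * g⁻¹) * (g * c * g⁻¹) by group]; exact mul_mem ha hc
      | inv a _ ha => rw [← conj_inv]; exact inv_mem ha
    intro g s hs
    show Bad G (orderOf (g * s * g⁻¹))
    rw [← MulAut.conj_apply, MulEquiv.orderOf_eq]; exact hs
  have hBA : ∀ b ∈ B, ∀ k ∈ K, b * k = k * b := by
    intro b hb k hk
    induction hb using closure_induction with
    | mem s hs =>
      have hb' : Bad G (orderOf (s : N ⧸ C₀)) := by rw [Subgroup.orderOf_coe]; exact hs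
      exact Subtype.ext (hcentA _ hb' (k : N ⧸ C₀) hk).symm
    | one => simp
    | mul a c _ _ ha hc => exact ((show Commute a k from ha).mul_left (show Commute c k from hc)).eq
    | inv a _ ha => exact (show Commute a k from ha).inv_left.eq
  -- the part of the kernel avoided by `B`
  obtain ⟨D, -, hD, hDmax⟩ := Finite.exists_le_maximal (α := Subgroup S₀)
    (p := fun D => D.Normal ∧ D ≤ K ∧ D ⊓ B = ⊥) (a := ⊥) ⟨inferInstance, bot_le, bot_inf_eq B⟩
  obtain ⟨hDn, hDK, hDB⟩ := hD
  haveI := hDn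
  set mkD := QuotientGroup.mk' D with hmkD
  let π : S₀ ⧸ D →* G ⧸ L := QuotientGroup.lift D (πX.comp S₀.subtype) (fun a ha =>
    MonoidHom.mem_ker.1 (hAker.ge (hDK ha)))
  have hπker : π.ker = K.map mkD := by
    ext e
    obtain ⟨s, rfl⟩ := QuotientGroup.mk'_surjective D e
    constructor
    · exact fun h => mem_map_of_mem _ (hAker.le (MonoidHom.mem_ker.2 h))
    · rintro ⟨b, hb, hbe⟩
      rw [MonoidHom.mem_ker, ← hbe]
      exact MonoidHom.mem_ker.1 (hAker.ge hb)
  have hπs : Function.Surjective π := by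
    intro y
    obtain ⟨n, rfl⟩ := hπ₀s y
    have hmem : mkC n ∈ S₀ ⊔ A := hS₀ ▸ mem_top _
    obtain ⟨s, hs, a, ha, hsa⟩ := Subgroup.mem_sup_of_normal_right.1 hmem
    refine ⟨mkD ⟨s, hs⟩, ?_⟩
    show πX s = πX (mkC n)
    rw [← hsa, map_mul, MonoidHom.mem_ker.1 (hAker.ge ha), mul_one]
  set B' : Subgroup (S₀ ⧸ D) := B.map mkD with hB'
  haveI hB'n : B'.Normal := hBn.map _ (QuotientGroup.mk'_surjective D)
  let eB : B →* B' := mkD.subgroupMap B
  have heB : Function.Bijective eB := by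
    refine ⟨(injective_iff_map_eq_one eB).2 fun b hb => ?_, mkD.subgroupMap_surjective B⟩
    have h1 : (b : S₀) ∈ D := (QuotientGroup.eq_one_iff _).1 (congrArg Subtype.val hb)
    have h3 : (b : S₀) ∈ D ⊓ B := ⟨h1, b.2⟩
    rw [hDB, mem_bot] at h3
    exact Subtype.ext h3
  let eE : B ≃* B' := MulEquiv.ofBijective eB heB
  -- elements of bad order of the quotient lie in the image of `B`
  have hbadE : ∀ e : S₀ ⧸ D, Bad G (orderOf e) → e ∈ B' := by
    intro e hb
    obtain ⟨s, rfl⟩ := QuotientGroup.mk'_surjective D e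
    have hr : ¬ orderOf (mkD s) ∣ Nat.card D :=
      fun h => hbadL _ hb (h.trans ((Subgroup.card_dvd_of_le hDK).trans hKL))
    have hmem : mkD s ^ Nat.card D ∈ B' := by
      refine ⟨s ^ Nat.card D, subset_closure ?_, map_pow _ _ _⟩
      show Bad G (orderOf (s ^ Nat.card D))
      rw [lift_prime D hb.1 rfl hr]; exact hb
    exact zpowers_le.2 hmem (mem_zpowers_pow_of_coprime (hb.1.coprime_iff_not_dvd.2 hr).symm)
  -- the module
  let φB : B' →* MulAut W := ((φX.comp S₀.subtype).comp B.subtype).comp eE.symm.toMonoidHom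
  haveI := indSub_nontrivial B' φB
  have hM2 : ∀ f : indSub B' φB, f ^ 2 = 1 := fun f => Subtype.ext (funext fun g => hW2 (f.1 g))
  have hfpf : ∀ e : S₀ ⧸ D, Bad G (orderOf e) → ∀ m, indAut B' φB e m = m → m = 1 := by
    intro e hb
    refine indAut_fpf B' φB e fun g => ?_
    have ho : orderOf (g * e * g⁻¹) = orderOf e := by rw [← MulAut.conj_apply, MulEquiv.orderOf_eq]
    refine ⟨⟨_, hbadE _ (by rw [ho]; exact hb)⟩, rfl, fun w hw => hbadX _ ?_ w hw⟩
    show Bad G (orderOf ((S₀.subtype.comp B.subtype) (eE.symm ⟨g * e * g⁻¹, _⟩)))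
    rw [orderOf_injective (S₀.subtype.comp B.subtype) (fun a c h => B.subtype_injective (S₀.subtype_injective h)),
      MulEquiv.orderOf_eq,
      Subgroup.orderOf_mk, ho]
    exact hb
  -- element orders of the section
  have hsec : ∀ n : ℕ, (∃ e : S₀ ⧸ D, orderOf e = n) → ∃ g : G, orderOf g = n := by
    intro n hn
    obtain ⟨s, hs⟩ := lift_order mkD (QuotientGroup.mk'_surjective D) hn
    obtain ⟨a, ha⟩ := lift_order mkC (QuotientGroup.mk'_surjective C₀)
      ⟨(s : N ⧸ C₀), by rw [Subgroup.orderOf_coe, hs]⟩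
    exact ⟨a, by rw [Subgroup.orderOf_coe, ha]⟩
  refine unbounded_of_section L h2 hadj π hπs hsec ?_ hM2 (indAut B' φB) hfpf
  intro q hq hqk
  haveI := Fact.mk hq
  rw [hπker] at hqk
  have hqK : q ∣ Nat.card K := hqk.trans (Subgroup.card_map_dvd K mkD)
  have hqL : q ∣ Nat.card L := hqK.trans hKL
  have hq2 : q ≠ 2 := by
    rintro rfl
    exact hAodd (hqK.trans (Subgroup.card_comap_dvd_of_injective A S₀.subtype S₀.subtype_injective))
  refine ⟨hqL, fun s hs hsq hsL => ?_⟩
  haveI := Fact.mk hs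
  obtain ⟨QG⟩ := (inferInstance : Nonempty (Sylow q (G ⧸ L)))
  refine edge_of_noncyclic L hq2 hsq.symm hsL QG fun hcyc => ?_
  -- a cyclic Sylow `q` subgroup kills the `q`-part
  set K' : Subgroup (S₀ ⧸ D) := K.map mkD with hK'
  haveI hKn' : K'.Normal := (inferInstance : K.Normal).map _ (QuotientGroup.mk'_surjective D)
  haveI : Group.IsNilpotent K' := Group.nilpotent_of_surjective (mkD.subgroupMap K) (mkD.subgroupMap_surjective K)
  obtain ⟨QK⟩ := (inferInstance : Nonempty (Sylow q K'))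
  haveI : (QK : Subgroup K').Normal := Sylow.normal_of_normalizerCondition normalizerCondition_of_isNilpotent QK
  haveI : (QK : Subgroup K').Characteristic := Sylow.characteristic_of_normal QK inferInstance
  set Q' : Subgroup (S₀ ⧸ D) := (QK : Subgroup K').map K'.subtype with hQ'
  haveI : Q'.Normal := ConjAct.normal_of_characteristic_of_normal
  have hQ'K : Q' ≤ K' := map_subtype_le _
  have hQ'ne : Q' ≠ ⊥ := by
    rw [hQ', ne_eq, Subgroup.map_eq_bot_iff_of_injective _ K'.subtype_injective]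
    exact QK.ne_bot_of_dvd_card hqk
  have hD' : ¬ (Q'.comap mkD ⊓ B = ⊥) := by
    intro h
    have hDle : D ≤ Q'.comap mkD := by
      intro d hd
      rw [mem_comap, hmkD, QuotientGroup.mk'_apply, (QuotientGroup.eq_one_iff d).2 hd]
      exact one_mem _
    have hle : Q'.comap mkD ≤ D := hDmax ⟨inferInstance, ?_, h⟩ hDle
    · refine hQ'ne (eq_bot_iff.2 fun y hy => ?_)
      obtain ⟨d, rfl⟩ := QuotientGroup.mk'_surjective D y
      exact mem_bot.2 ((QuotientGroup.eq_one_iff d).2 (hle hy))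
    · refine (comap_mono hQ'K).trans ?_
      rw [hK', comap_map_eq, hmkD, QuotientGroup.ker_mk', sup_eq_left.2 hDK]
  obtain ⟨⟨b, hb⟩, hb1'⟩ := Subgroup.ne_bot_iff_exists_ne_one.1 hD'
  have hb1 : b ≠ 1 := fun e => hb1' (Subtype.ext e)
  have hfin := not_dvd_central_ker (B := B') (π.comp B'.subtype) (q := q) ?_ ?_ ?_
  · refine hfin ?_
    have hbB : mkD b ∈ B' := mem_map_of_mem _ hb.2
    have hbne : mkD b ≠ 1 := fun h => hb1 <| by
      have h3 : b ∈ D ⊓ B := ⟨(QuotientGroup.eq_one_iff b).1 h, hb.2⟩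
      rwa [hDB, mem_bot] at h3
    have hbq : q ∣ orderOf (mkD b) := prime_dvd_orderOf (QK.2.map K'.subtype) hb.1 hbne
    have hker : (⟨mkD b, hbB⟩ : B') ∈ (π.comp B'.subtype).ker := hπker.ge (hQ'K hb.1)
    refine hbq.trans ?_
    rw [← Subgroup.orderOf_mk (H := B') (mkD b) hbB]
    exact Subgroup.orderOf_dvd_natCard (π.comp B'.subtype).ker hker
  · intro x hx
    have hxK : (x : S₀ ⧸ D) ∈ K' := hπker.le hx
    obtain ⟨k, hk, hkx⟩ := hxK
    refine mem_center_iff.2 fun y => Subtype.ext ?_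
    obtain ⟨c, hc, hcy⟩ := y.2
    show (y : S₀ ⧸ D) * x = x * y
    rw [← hkx, ← hcy, ← map_mul, ← map_mul, hBA c hc k hk]
  · rw [eq_top_iff]
    intro y hy
    clear hy
    obtain ⟨b', rfl⟩ := eE.surjective y
    obtain ⟨b', hb'⟩ := b'
    induction hb' using closure_induction with
    | mem s hs =>
      refine subset_closure ?_
      show ¬ q ∣ orderOf (eE ⟨s, _⟩)
      rw [MulEquiv.orderOf_eq, Subgroup.orderOf_mk]
      intro hd
      exact hbadL _ hs (((Nat.prime_dvd_prime_iff_eq hq hs.1).1 hd) ▸ hqL)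
    | one => exact (map_one eE).symm ▸ one_mem _
    | mul a c ha hc iha ihc =>
      have e : eE ⟨a * c, mul_mem ha hc⟩ = eE ⟨a, ha⟩ * eE ⟨c, hc⟩ := by rw [← map_mul]; rfl
      rw [e]; exact mul_mem iha ihc
    | inv a ha iha =>
      have e : eE ⟨a⁻¹, inv_mem ha⟩ = (eE ⟨a, ha⟩)⁻¹ := by rw [← map_inv]; rfl
      rw [e]; exact inv_mem iha
  · intro R
    have hR : IsPGroup q ((R : Subgroup B').map (π.comp B'.subtype)) := R.2.map _
    obtain ⟨R', hR'⟩ := hR.exists_le_sylow
    obtain ⟨g, hg⟩ := MulAction.exists_smul_eq (G ⧸ L) QG R'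
    haveI := hcyc
    haveI : IsCyclic (R' : Subgroup (G ⧸ L)) := by
      rw [← hg]
      exact isCyclic_of_surjective _ (Sylow.equiv QG (g • QG)).surjective
    exact isCyclic_of_injective (Subgroup.inclusion hR') (Subgroup.inclusion_injective hR')

end Cfsg.Lib.SameGraph
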